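import Cfsg.Agent.HZ.Basic
import Cfsg.Agent.HZ.Alt.Grp
import Cfsg.Agent.ODD.Alt.Rat

/-!
# HZ (S4909): the row of the alternating groups and their covers (helper19)

If the centre has odd order all characters are `2`-rational.  Otherwise a good element `y` of odd order of a faithful
character has only `2`-elements `u` with `u ^ 4 = 1` in its centraliser: else two elements of the centraliser have a
non-trivial central commutator, which forces the character to vanish at a place where it is a unit.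
-/

set_option autoImplicit false

namespace Cfsg.Agent.HZ.Alt

open Cfsg Subgroup Cfsg.Agent.ODD Cfsg.Agent.ODD.Red Cfsg.Agent.Characters Cfsg.Agent.Blocks
  Cfsg.Agent.Blocks.LocalRing

/-- a faithful character vanishes at `a y` when `a` has a non-trivial central commutator with an element of `C(y)` -/
theorem zero_of_comm {X : Type} [Group X] [Finite X] {χ : X → ℂ} (hχ : IsIrrCharacter X χ)
    (hf : ∀ g, χ g = χ 1 → g = 1) {a b y : X} (hb : b * y = y * b) (hd : b * a * b⁻¹ * a⁻¹ ∈ center X)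
    (hn : b * a ≠ a * b) : χ (a * y) = 0 := by
  by_contra h0
  obtain ⟨c, h1, -⟩ := exists_central hχ hd
  have h2 : b * a * b⁻¹ * a⁻¹ * (a * y) = b * (a * y) * b⁻¹ := by
    have h3 : b⁻¹ * y = y * b⁻¹ := by
      rw [inv_mul_eq_iff_eq_mul, ← mul_assoc, hb, mul_inv_cancel_right]
    calc b * a * b⁻¹ * a⁻¹ * (a * y) = b * a * (b⁻¹ * y) := by group
      _ = b * (a * y) * b⁻¹ := by rw [h3]; group
  have h4 := h1 (a * y)
  rw [h2, ← Basic.irr_isConj hχ (isConj_iff.2 ⟨b, rfl⟩)] at h4
  have h5 : c = 1 := mul_right_cancel₀ h0 (by rw [← h4, one_mul])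
  have h6 := h1 1
  rw [mul_one, h5, one_mul] at h6
  have h7 := hf _ h6
  apply hn
  rw [mul_inv_eq_one, mul_inv_eq_iff_eq_mul] at h7
  exact h7

theorem rowAlt : Row fun S _ => IsAlternating S := by
  rintro M hM X _ _ hX ⟨n, hn, ⟨e⟩⟩ - χ hχ hf h0 σ hσ hfix
  let π : X →* alternatingGroup (Fin n) := e.toMonoidHom.comp (QuotientGroup.mk' _)
  have hs : Function.Surjective π := e.surjective.comp (QuotientGroup.mk'_surjective _)
  have hk : π.ker ≤ center X := fun z hz => by
    have h1 : e (z : X ⧸ center X) = 1 := hz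
    exact (QuotientGroup.eq_one_iff z).1 (e.map_eq_one_iff.1 h1)
  by_cases ho : Odd (Nat.card π.ker)
  · exact ODD.Alt.allR_alt.cover π hs hk ho χ hχ
  obtain ⟨y, hy, hg⟩ := h0.odd hM hχ
  refine rat2_of_four hM hχ hg (fun u hc ⟨k, hk'⟩ => ?_) hσ hfix
  by_contra h4
  obtain ⟨a, b, ⟨j, hj⟩, ha, hb, hd, hn'⟩ := exists_pair hn π hs hk hX.1.commutator_eq_top ho hy
    (hk' ▸ pow_orderOf_eq_one u) hc h4
  obtain ⟨i, -, hi⟩ := (Nat.dvd_prime_pow Nat.prime_two).1 (orderOf_dvd_of_pow_eq_one hj)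
  exact ne_zero_of_not_memLocalIdeal hM (hg.unit hM hχ hy ⟨i, hi⟩ ha) (zero_of_comm hχ hf hb hd hn')

end Cfsg.Agent.HZ.Alt
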